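import Cfsg.Agent.H692.RG.Cls
import Cfsg.Agent.H368.G3.Comb
import Cfsg.Agent.H469.Exc.SigFr

/-!
# S3509, graph involutions of `E₆`, `q` odd: the unipotent group of `L`, the final pair (helper692 for helper368)

`Y = chevE6.group (KK r)`, `τ = conj t * gr`, `TE ε t`, `ε = e`, `φ = phi n`, `xs hp6.inList s c` the root elements.
* `tau_xs` : `τ (x_s(c)) = x_(rho s)(kap e s * c)`;
* `U_le` : a subgroup containing the root elements of `U ∩ Fix τ ∩ Fix φ` contains `U ∩ Fix τ ∩ Fix φ`;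
* `fin6`, `fin6T` : the final pair.
-/

set_option autoImplicit false
set_option linter.unusedSectionVars false

namespace Cfsg.Agent.H692.RG

open CoxeterSystem Subgroup Cfsg Cfsg.Lie Cfsg.Lie.ChevalleyDatum
open Cfsg.Agent.ChevalleyStructure Cfsg.Agent.ChevalleyStructure.Elts Cfsg.Agent.ChevalleyStructure.CoxeterGeom
  Cfsg.Agent.ChevalleyStructure.CoxeterGeomTypes Cfsg.Agent.ChevalleyStructure.NPerm
open Cfsg.Agent.Tits.Roots Cfsg.Agent.Tits.Core Cfsg.Agent.Nodes.BNOf Cfsg.Agent.Nodes.RGDChev Cfsg.Agent.KFacts.RgdChevCoord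
open Cfsg.Agent.BpExc.TowChev Cfsg.Agent.BpExc.FamUntw Cfsg.Agent.BpExc.LangFr Cfsg.Agent.BpExc.FamField
  Cfsg.Agent.BpExc.RowsUntw Cfsg.Agent.BpExc.FamInst
open Cfsg.Agent.ChevalleyStructure.GraphSymm (symmE6)
open Cfsg.Agent.BpExc.FamTw.Gr
open Cfsg.Agent.GpExc.Field (glMap emb coe_emb glMap_xG emb_injective coe_glMap glMap_injective)
open Cfsg.Agent.H469.Exc (KK)
open Cfsg.Agent.H469.Exc.SigFr (xs coe_xs)
open Cfsg.Agent.H296.ESixGF (hp6)
open Cfsg.Agent.ChevalleyStructure.TwistedU Cfsg.Agent.ChevalleyStructure.TwistedFix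
open Cfsg.Agent.ChevalleyStructure.TwistedE6Sigma (rho eps rho_rho rho_lt eps_sq)
open Cfsg.Agent.ChevalleyStructure.TwistedE6U (L L_lt L_nodup X good_L posUnipotent_eq lprod_inj orbit_commute)
open Cfsg.Agent.H368.G3 (kap expo_rho expo_vec)
open Cfsg.Agent.ChevalleyStructure.HMatDiagAll (expo)
open scoped commutatorElement

section Abs

variable {ι K Γ Γ' : Type*} [AddGroup K] [Group Γ] [Group Γ']

theorem rspan_map (j : Γ →* Γ') (x : ι → K → Γ) (S : Set ι) :
    rspan (fun r t => j (x r t)) S = (rspan x S).map j := by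
  unfold rspan
  rw [MonoidHom.map_closure]
  congr 1
  ext g
  constructor
  · rintro ⟨r, hr, t, rfl⟩
    exact ⟨_, ⟨r, hr, t, rfl⟩, rfl⟩
  · rintro ⟨_, ⟨r, hr, t, rfl⟩, rfl⟩
    exact ⟨r, hr, t, rfl⟩

theorem good_comp (j : Γ →* Γ') {x : ι → K → Γ} : ∀ {l : List ι}, Good x l → Good (fun r t => j (x r t)) l := by
  intro l
  induction l with
  | nil => intro _; exact good_nil _
  | cons r l ih =>
    intro h
    refine ⟨fun s hs t u => ?_, ih h.2⟩
    rw [← map_commutatorElement, rspan_map]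
    exact ⟨_, h.1 s hs t u, rfl⟩

theorem good_of_comp {j : Γ →* Γ'} (hj : Function.Injective j) {x : ι → K → Γ} :
    ∀ {l : List ι}, Good (fun r t => j (x r t)) l → Good x l := by
  intro l
  induction l with
  | nil => intro _; exact good_nil _
  | cons r l ih =>
    intro h
    refine ⟨fun s hs t u => ?_, ih h.2⟩
    have h1 := h.1 s hs t u
    rw [← map_commutatorElement, rspan_map] at h1
    obtain ⟨g, hg, e⟩ := h1
    rw [← hj e]
    exact hg

theorem lprod_map (j : Γ →* Γ') (x : ι → K → Γ) (l : List ι) (t : ι → K) :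
    lprod (fun r t => j (x r t)) l t = j (lprod x l t) := by
  unfold lprod
  rw [map_list_prod, List.map_map]
  rfl

end Abs

variable {r : ℕ} [Fact r.Prime]

/-- `conj t * gr` -/
noncomputable abbrev tau (t : ↥(chevE6.group (KK r))) : MulAut ↥(chevE6.group (KK r)) :=
  MulAut.conj t * gr (L := KK r) hp6.inList symmE6

theorem tau_apply (t y : ↥(chevE6.group (KK r))) :
    tau t y = t * gr (L := KK r) hp6.inList symmE6 y * t⁻¹ := rfl

theorem xs_eq_xc {s : ℕ} (hs : s < 72) (c : KK r) :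
    xs (D := chevE6) hp6.inList s c = xc hp6 (vec chevE6 6 s) c :=
  Subtype.ext (coe_xc hp6 (show s < chevE6.nroots from hs) c).symm

theorem gr_xs {s : ℕ} (hs : s < 72) (c : KK r) : gr (L := KK r) hp6.inList symmE6 (xs hp6.inList s c) =
    xs hp6.inList (rho s) (((eps s : ℤ) : KK r) * c) := by
  exact Cfsg.Agent.H321.IFE6.gam_X hs c

theorem tau_xs {ε : (KK r)ˣ} {t : ↥(chevE6.group (KK r))} (h : TE ε t) {e : ℤ} (he : (ε : KK r) = (e : KK r)) {s : ℕ}
    (hs : s < 72) (c : KK r) : tau t (xs hp6.inList s c) = xs hp6.inList (rho s) (((kap e s : ℤ) : KK r) * c) := by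
  have hs' := rho_lt s hs
  have hr := (isRoot_iff hp6 CoxeterMatrix.E₆.toCoxeterSystem _).2 ⟨rho s, hs', rfl⟩
  have C := coordsL (k := KK r) hp6 CoxeterMatrix.E₆.toCoxeterSystem (Cfsg.Agent.H469.Exc.locFin r) r
  rw [tau_apply, gr_xs hs, xs_eq_xc hs', (C.coord _ hr).act t h.mem, h.ch hr, xs_eq_xc hs']
  congr 1
  rw [← mul_assoc]
  congr 1
  rw [← expo_vec _ hs', expo_rho s hs]
  unfold kap
  rcases Int.even_or_odd' (expo chevE6 71 s) with ⟨j, hj | hj⟩
  · rw [hj, if_pos (by omega), two_mul, eps_zpow h.eps, Units.val_one, one_mul]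
  · rw [hj, if_neg (by omega), two_mul, zpow_add, eps_zpow h.eps, one_mul, zpow_one, he]
    push_cast
    rfl

theorem emb_xs {F : Type*} [Field F] {k : Type*} [Field k] (f : F →+* k) (s : ℕ) (c : F) :
    emb hp6.inList f (xs (D := chevE6) hp6.inList s c) = xs hp6.inList s (f c) := by
  apply Subtype.ext
  rw [coe_emb]
  show glMap chevE6 f (xG hp6.inList s c) = xG hp6.inList s (f c)
  rw [glMap_xG]

/-- The setup for `τ` on the positive root elements over `F`. -/
theorem setup {F : Type} [Field F] [Fintype F] (f : F →+* KK r) {ε : (KK r)ˣ} {t : ↥(chevE6.group (KK r))} (h : TE ε t)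
    {e : ℤ} (he : (ε : KK r) = (e : KK r)) :
    Setup (fun (s : ℕ) (c : F) => xs (D := chevE6) hp6.inList s (f c)) L (tau t).toMonoidHom rho rho
      (fun s c => ((kap e s : ℤ) : F) * c) where
  hadd s a b := by
    rw [map_add]
    exact (Subtype.ext (Elts.xG_add hp6.inList s (f a) (f b))).symm
  nodup := L_nodup
  good := by
    have h1 : Good (fun (s : ℕ) (c : F) => (xs (D := chevE6) hp6.inList s c : ↥(chevE6.group F))) L.flatten :=
      good_of_comp (j := (chevE6.group F).subtype) Subtype.val_injective good_L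
    have h2 := good_comp (emb hp6.inList f) h1
    simp only [emb_xs] at h2
    exact h2
  inj t1 t2 h1 := by
    have h2 : ∀ t3 : ℕ → F, lprod (fun (s : ℕ) (c : F) => xs (D := chevE6) hp6.inList s (f c)) L.flatten t3 =
        emb hp6.inList f (lprod (fun (s : ℕ) (c : F) => xs (D := chevE6) hp6.inList s c) L.flatten t3) := by
      intro t3
      rw [← lprod_map]
      simp only [emb_xs]
    rw [h2, h2] at h1
    have h3 := congrArg (chevE6.group F).subtype (emb_injective hp6.inList f h1)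
    rw [← lprod_map, ← lprod_map] at h3
    exact lprod_inj t1 t2 h3
  hσ s hs c := by
    show tau t (xs hp6.inList s (f c)) = xs hp6.inList (rho s) (f (((kap e s : ℤ) : F) * c))
    rw [tau_xs h he (L_lt s hs), map_mul, map_intCast]
  perm := by decide
  comm o ho := by
    refine (orbit_commute (K := KK r) ho).imp fun {a b} hab c d => ?_
    show xs hp6.inList a (f c) * xs hp6.inList b (f d) = xs hp6.inList b (f d) * xs hp6.inList a (f c)
    exact Subtype.ext (hab (f c) (f d)).eq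
  left_inv s hs := rho_rho s (L_lt s hs)

/-- positive elements over `F` -/
theorem mem_rspan_of_pos {F : Type} [Field F] (f : F →+* KK r) {u0 : GL chevE6.Idx F} (hu0 : u0 ∈ chevE6.posUnipotent F)
    {u : ↥(chevE6.group (KK r))} (hu : glMap chevE6 f u0 = u) :
    u ∈ rspan (fun (s : ℕ) (c : F) => xs (D := chevE6) hp6.inList s (f c)) {k | k ∈ L.flatten} := by
  rw [posUnipotent_eq] at hu0
  have h1 : rspan (X (K := F)) {k | k ∈ L.flatten} ≤
      ((rspan (fun (s : ℕ) (c : F) => xs (D := chevE6) hp6.inList s (f c)) {k | k ∈ L.flatten}).map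
        (chevE6.group (KK r)).subtype).comap (glMap chevE6 f) := by
    refine rspan_le _ fun s hs c => ?_
    refine ⟨xs hp6.inList s (f c), mem_rspan (fun (s : ℕ) (c : F) => xs (D := chevE6) hp6.inList s (f c)) hs c, ?_⟩
    show xG hp6.inList s (f c) = glMap chevE6 f (xG hp6.inList s c)
    rw [glMap_xG]
  obtain ⟨y, hy, e⟩ := h1 hu0
  have e1 : y = u := Subtype.ext (e.trans hu)
  rw [← e1]
  exact hy

/-- products over the orbits -/
theorem lprod_mem_of_orbits {F : Type} [Field F] (f : F →+* KK r) {e : ℤ} (hr2 : r ≠ 2) (he : e = 1 ∨ e = -1)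
    {G1 : Subgroup ↥(chevE6.group (KK r))}
    (hF : ∀ s < 72, rho s = s → kap e s = 1 → ∀ c : F, xs hp6.inList s (f c) ∈ G1)
    (hM : ∀ s < 72, rho s ≠ s → ∀ c : F, xs hp6.inList s (f c) *
      xs hp6.inList (rho s) (((kap e s : ℤ) : KK r) * f c) ∈ G1) {c : ℕ → F}
    (hc : ∀ s ∈ L.flatten, c (rho s) = ((kap e s : ℤ) : F) * c s) :
    lprod (fun (s : ℕ) (c : F) => xs (D := chevE6) hp6.inList s (f c)) L.flatten c ∈ G1 := by
  have hL : ∀ o ∈ L, (∃ s < 72, o = [s] ∧ rho s = s ∧ (kap e s = 1 ∨ kap e s = -1)) ∨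
      ∃ s < 72, o = [s, rho s] ∧ rho s ≠ s := by
    rcases he with rfl | rfl
    · decide +kernel
    · decide +kernel
  have h2 : (2 : F) ≠ 0 := by
    intro h
    have h3 := congrArg f h
    rw [map_zero, map_ofNat] at h3
    have h4 : ((2 : ℕ) : KK r) = 0 := by exact_mod_cast h3
    rw [CharP.cast_eq_zero_iff (KK r) r] at h4
    exact hr2 ((Nat.prime_dvd_prime_iff_eq (Fact.out : r.Prime) Nat.prime_two).1 h4)
  have key : ∀ L' : List (List ℕ), (∀ o ∈ L', o ∈ L) →
      lprod (fun (s : ℕ) (c : F) => xs (D := chevE6) hp6.inList s (f c)) L'.flatten c ∈ G1 := by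
    intro L'
    induction L' with
    | nil => intro _; exact G1.one_mem
    | cons o L' ih =>
      intro hL'
      rw [List.flatten_cons, lprod_append]
      have hoL := hL' o List.mem_cons_self
      refine G1.mul_mem ?_ (ih fun o' ho' => hL' o' (List.mem_cons_of_mem _ ho'))
      rcases hL o hoL with ⟨s, hs, rfl, hρ, hk⟩ | ⟨s, hs, rfl, hρ⟩
      · have hsm : s ∈ L.flatten := List.mem_flatten.2 ⟨_, hoL, List.mem_cons_self⟩
        rw [lprod_cons, lprod_nil, mul_one]
        rcases hk with hk | hk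
        · exact hF s hs hρ hk _
        · have h3 := hc s hsm
          rw [hρ, hk] at h3
          have h4 : c s = 0 := by
            have h5 : (2 : F) * c s = 0 := by
              have h6 : ((-1 : ℤ) : F) * c s = -c s := by push_cast; ring
              rw [h6] at h3
              linear_combination h3
            exact (mul_eq_zero.1 h5).resolve_left h2
          show xs hp6.inList s (f (c s)) ∈ G1
          rw [h4, map_zero]
          have h7 : xs (D := chevE6) hp6.inList s (0 : KK r) = 1 := Subtype.ext (Elts.xG_zero hp6.inList s)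
          rw [h7]
          exact one_mem _
      · have hsm : s ∈ L.flatten := List.mem_flatten.2 ⟨_, hoL, List.mem_cons_self⟩
        rw [lprod_cons, lprod_cons, lprod_nil, mul_one]
        show xs hp6.inList s (f (c s)) * xs hp6.inList (rho s) (f (c (rho s))) ∈ G1
        rw [hc s hsm, map_mul, map_intCast]
        exact hM s hs hρ _
  exact key L fun _ h => h

/-- **`U ∩ Fix τ ∩ Fix φ` is generated by root elements.** -/
theorem U_le {n : ℕ} (hn0 : 0 < n) (hr2 : r ≠ 2) {ε : (KK r)ˣ} {t : ↥(chevE6.group (KK r))} (h : TE ε t)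
    {e : ℤ} (he : (ε : KK r) = (e : KK r)) (he' : e = 1 ∨ e = -1) {G1 : Subgroup ↥(chevE6.group (KK r))}
    (hF : ∀ s < 72, rho s = s → kap e s = 1 → ∀ c : KK r, c ^ r ^ n = c → xs hp6.inList s c ∈ G1)
    (hM : ∀ s < 72, rho s ≠ s → ∀ c : KK r, c ^ r ^ n = c →
      xs hp6.inList s c * xs hp6.inList (rho s) (((kap e s : ℤ) : KK r) * c) ∈ G1)
    {u : ↥(chevE6.group (KK r))} (hu : (u : GL chevE6.Idx (KK r)) ∈ chevE6.posUnipotent (KK r))
    (hφ : phi chevE6 (KK r) r n u = u) (hτ : tau t u = u) : u ∈ G1 := by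
  have : Fintype (GaloisField r n) := Fintype.ofFinite _
  have hcard : Fintype.card (GaloisField r n) = r ^ n := by
    rw [← Nat.card_eq_fintype_card, GaloisField.card r n hn0.ne']
  obtain ⟨f⟩ := exists_emb r (GaloisField r n)
  have hfc : ∀ c : GaloisField r n, (f c) ^ r ^ n = f c := fun c => by
    rw [← map_pow, ← hcard, FiniteField.pow_card]
  have hφ' : glMap chevE6 ((frb (KK r) r n : KK r ≃+* KK r) : KK r →+* KK r) (u : GL chevE6.Idx (KK r)) = u := by
    rw [← Cfsg.Agent.H692.IFO.Lang.phi_coe', hφ]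
  obtain ⟨u0, hu0, e0⟩ := Cfsg.Agent.BpExc.Emb.exists_of_fix hp6.inList (f := f)
    (fun a ha => by
      refine Cfsg.Agent.BpExc.Emb.mem_range_of_pow f ?_
      rw [hcard]
      rw [← frb_apply]
      exact ha) hu hφ'
  have h1 := mem_rspan_of_pos f hu0 e0
  obtain ⟨c, hc, rfl⟩ := (setup f h he).mem_fix_iff.1 ⟨h1, hτ⟩
  exact lprod_mem_of_orbits f hr2 he' (fun s hs h2 h3 c => hF s hs h2 h3 _ (hfc c))
    (fun s hs h2 c => hM s hs h2 _ (hfc c)) hc

theorem pos_idx : ∀ s : Fin 72, (∀ i : Fin 6, 0 ≤ vec chevE6 6 s.val i) → 36 ≤ s.val := by decide +kernel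

/-- the same for `RGD.Sup` -/
theorem U_le' {n : ℕ} (hn0 : 0 < n) (hr2 : r ≠ 2) {ε : (KK r)ˣ} {t : ↥(chevE6.group (KK r))} (h : TE ε t)
    {e : ℤ} (he : (ε : KK r) = (e : KK r)) (he' : e = 1 ∨ e = -1) {G1 : Subgroup ↥(chevE6.group (KK r))}
    (hF : ∀ s < 72, rho s = s → kap e s = 1 → ∀ c : KK r, c ^ r ^ n = c → xs hp6.inList s c ∈ G1)
    (hM : ∀ s < 72, rho s ≠ s → ∀ c : KK r, c ^ r ^ n = c →
      xs hp6.inList s c * xs hp6.inList (rho s) (((kap e s : ℤ) : KK r) * c) ∈ G1)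
    {u : ↥(chevE6.group (KK r))}
    (hu : u ∈ RGD.Sup (XX chevE6 6 (KK r)) (RGD.Pos CoxeterMatrix.E₆.toCoxeterSystem hp6.isCartan))
    (hφ : phi chevE6 (KK r) r n u = u) (hτ : tau t u = u) : u ∈ G1 := by
  refine U_le hn0 hr2 h he he' hF hM ?_ hφ hτ
  have h1 : RGD.Sup (XX chevE6 6 (KK r)) (RGD.Pos CoxeterMatrix.E₆.toCoxeterSystem hp6.isCartan) ≤
      (chevE6.posUnipotent (KK r)).subgroupOf (chevE6.group (KK r)) := by
    refine RGD.Sup_le fun a ha y hy => ?_
    obtain ⟨s, hs, rfl⟩ := (isRoot_iff hp6 CoxeterMatrix.E₆.toCoxeterSystem a).1 ha.1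
    rw [Subgroup.mem_subgroupOf] at hy ⊢
    rw [XV_vec hp6 (KK r) hs, mem_rootSubgroup_iff hp6.inList] at hy
    obtain ⟨c, hc⟩ := hy
    rw [hc]
    exact xG_mem_posUnipotent hp6.inList ((Cfsg.Agent.H321.IFE6.isPos_iff hs).2 (pos_idx ⟨s, hs⟩ ha.2)) c
  exact h1 hu

/-! ### the final pair -/

theorem comm_calc {G : Type*} [Group G] {p q u v z1 z2 : G} (h1 : u * p = p * u * z1) (h2 : v * q = q * v * z2)
    (hpv : v * p = p * v) (hqu : u * q = q * u) (c1 : z1 * q = q * z1) (c2 : z1 * v = v * z1)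
    (d1 : z1 * z2 * (u * v) = u * v * (z1 * z2)) (d2 : z1 * z2 * (p * q) = p * q * (z1 * z2)) :
    ⁅p * q, u * v⁆ = (z1 * z2)⁻¹ := by
  have e1 : (u * v) * (p * q) = (p * q) * (u * v) * (z1 * z2) := by
    calc (u * v) * (p * q) = u * (v * p) * q := by group
      _ = u * p * (v * q) := by rw [hpv]; group
      _ = p * u * z1 * (q * v * z2) := by rw [h1, h2]
      _ = p * u * (z1 * q) * v * z2 := by group
      _ = p * (u * q) * (z1 * v) * z2 := by rw [c1]; group
      _ = (p * q) * (u * v) * (z1 * z2) := by rw [hqu, c2]; group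
  have e2 : (p * q) * (u * v) * (z1 * z2) = (z1 * z2) * ((p * q) * (u * v)) := by
    rw [mul_assoc, ← d1, ← mul_assoc, ← d2]
    group
  rw [commutatorElement_def]
  calc p * q * (u * v) * (p * q)⁻¹ * (u * v)⁻¹ = (p * q) * (u * v) * ((u * v) * (p * q))⁻¹ := by group
    _ = (p * q) * (u * v) * ((z1 * z2) * ((p * q) * (u * v)))⁻¹ := by rw [e1, e2]
    _ = (z1 * z2)⁻¹ := by group

theorem xs_comm {s s' : ℕ} (hs : s < 72) (hs' : s' < 72) (h1 : s' ≠ s) (h2 : s' ≠ chevE6.neg s)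
    (h : chevE6.commTerms s s' = []) (a b : KK r) :
    xs (D := chevE6) hp6.inList s' b * xs hp6.inList s a = xs hp6.inList s a * xs hp6.inList s' b :=
  Subtype.ext (TwE6Basic.comm_of_commTerms hs hs' h1 h2 h a b)

theorem xs_one {s s' b : ℕ} {n1 : ℤ} (hs : s < 72) (hs' : s' < 72) (h1 : s' ≠ s) (h2 : s' ≠ chevE6.neg s)
    (h : chevE6.commTerms s s' = [(b, n1, 1, 1)]) (a c : KK r) :
    xs (D := chevE6) hp6.inList s' c * xs hp6.inList s a =
      xs hp6.inList s a * xs hp6.inList s' c * xs hp6.inList b (-((n1 : KK r) * (a * c))) := by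
  apply Subtype.ext
  have h3 := TwistedE6U.comm_formula (K := KK r) hs hs' h1 h2 a c
  refine h3.trans ?_
  rw [Subgroup.coe_mul, Subgroup.coe_mul]
  congr 1
  unfold ChevalleyDatum.commWord
  rw [h]
  apply Units.ext
  rw [Elts.coe_wordG]
  show chevE6.x (KK r) b _ * 1 = chevE6.x (KK r) b _
  rw [mul_one]
  congr 1
  simp only [pow_one]
  ring

theorem xs_add (s : ℕ) (a b : KK r) : xs (D := chevE6) hp6.inList s a * xs hp6.inList s b = xs hp6.inList s (a + b) :=
  Subtype.ext (Elts.xG_add hp6.inList s a b)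

theorem xs_zero (s : ℕ) : xs (D := chevE6) hp6.inList s (0 : KK r) = 1 := Subtype.ext (Elts.xG_zero hp6.inList s)

theorem xs_inv (s : ℕ) (a : KK r) : (xs (D := chevE6) hp6.inList s a)⁻¹ = xs hp6.inList s (-a) :=
  Subtype.ext (Elts.xG_inv hp6.inList s a)

theorem xs_pow (s : ℕ) (a : KK r) (j : ℕ) : xs (D := chevE6) hp6.inList s a ^ j = xs hp6.inList s (j * a) := by
  induction j with
  | zero => rw [pow_zero, Nat.cast_zero, zero_mul, xs_zero]
  | succ j ih => rw [pow_succ, ih, xs_add]; congr 1; push_cast; ring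

theorem xs_pow_r (s : ℕ) (a : KK r) : xs (D := chevE6) hp6.inList s a ^ r = 1 := by
  rw [xs_pow, CharP.cast_eq_zero, zero_mul, xs_zero]

theorem phi_xs {s : ℕ} (hs : s < 72) (n : ℕ) (c : KK r) :
    phi chevE6 (KK r) r n (xs hp6.inList s c) = xs hp6.inList s (c ^ r ^ n) := by
  rw [xs_eq_xc hs, xs_eq_xc hs]
  exact Cfsg.Agent.H378.TorChar.phi_xc hp6 r (show s < chevE6.nroots from hs) c

/-- the commutator of the pair -/
theorem fin_comm (p q u v : KK r) : ⁅xs (D := chevE6) hp6.inList 48 p * xs hp6.inList 50 q,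
    xs hp6.inList 68 u * xs hp6.inList 66 v⁆ = xs hp6.inList 71 (p * u + q * v) := by
  have h := Cfsg.Agent.H368.G3.fin_check
  obtain ⟨⟨h1, h2, h3, h4, h5, h6, h7, h8, n1, n2, n3, n4, n5, n6, n7, n8, n9, n10, n11, n12, n13, n14, n15, n16⟩,
    r1, r2, r3, r4, -, -⟩ := h
  rw [r1] at h1 h4 h8 n3 n4 n5 n6 n15 n16
  rw [r2] at h2 h4 h6 n3 n4 n7 n8 n11 n12
  have c71 : ∀ (s : ℕ), s < 72 → 71 ≠ s → 71 ≠ chevE6.neg s → chevE6.commTerms s 71 = [] → ∀ a b : KK r,
      xs (D := chevE6) hp6.inList 71 b * xs hp6.inList s a = xs hp6.inList s a * xs hp6.inList 71 b :=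
    fun s hs h1 h2 h3 a b => xs_comm hs (by norm_num) h1 h2 h3 a b
  have e48 := c71 48 (by norm_num) n9 n10 h5
  have e50 := c71 50 (by norm_num) n11 n12 h6
  have e66 := c71 66 (by norm_num) n13 n14 h7
  have e68 := c71 68 (by norm_num) n15 n16 h8
  have k1 := xs_one (r := r) (s := 48) (s' := 68) (by norm_num) (by norm_num) n5 n6 h1 p u
  have k2 := xs_one (r := r) (s := 50) (s' := 66) (by norm_num) (by norm_num) n7 n8 h2 q v
  rw [Int.cast_one, one_mul] at k1 k2
  have k3 := xs_comm (r := r) (s := 48) (s' := 66) (by norm_num) (by norm_num) n1 n2 h3 p v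
  have k4 := xs_comm (r := r) (s := 50) (s' := 68) (by norm_num) (by norm_num) n3 n4 h4 q u
  rw [comm_calc k1 k2 k3 k4 (e50 _ _) (e66 _ _) ?_ ?_, xs_add, xs_inv, neg_add, neg_neg, neg_neg]
  · rw [xs_add]
    rw [← mul_assoc, e68, mul_assoc, e66, mul_assoc]
  · rw [xs_add]
    rw [← mul_assoc, e48, mul_assoc, e50, mul_assoc]

theorem kap_vals {e : ℤ} (he : e = 1 ∨ e = -1) : kap e 48 = e ∧ kap e 50 = e ∧ kap e 68 = e ∧ kap e 66 = e := by
  rcases he with rfl | rfl
  · decide +kernel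
  · decide +kernel

/-- the elements `48, 50` and `68, 66` commute, and they commute with `71` -/
theorem fin_commute (p q : KK r) : xs (D := chevE6) hp6.inList 50 q * xs hp6.inList 48 p =
      xs hp6.inList 48 p * xs hp6.inList 50 q ∧
    xs (D := chevE6) hp6.inList 66 q * xs hp6.inList 68 p = xs hp6.inList 68 p * xs hp6.inList 66 q ∧
    xs (D := chevE6) hp6.inList 48 p * xs hp6.inList 50 q * xs hp6.inList 71 1 =
      xs hp6.inList 71 1 * (xs hp6.inList 48 p * xs hp6.inList 50 q) ∧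
    xs (D := chevE6) hp6.inList 68 p * xs hp6.inList 66 q * xs hp6.inList 71 1 =
      xs hp6.inList 71 1 * (xs hp6.inList 68 p * xs hp6.inList 66 q) := by
  have hp := Cfsg.Agent.H368.G3.pair_check
  obtain ⟨⟨-, -, -, -, h5, h6, h7, h8, -, -, -, -, -, -, -, -, n9, n10, n11, n12, n13, n14, n15, n16⟩,
    r1, r2, r3, r4, -, -⟩ := Cfsg.Agent.H368.G3.fin_check
  rw [r1] at h8 n15 n16
  rw [r2] at h6 n11 n12
  have p48 := hp 48 (by norm_num) (by rw [r2]; norm_num)
  have p68 := hp 68 (by norm_num) (by rw [r4]; norm_num)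
  rw [r2] at p48
  rw [r4] at p68
  have e48 := xs_comm (r := r) (s := 48) (s' := 71) (by norm_num) (by norm_num) n9 n10 h5 p 1
  have e50 := xs_comm (r := r) (s := 50) (s' := 71) (by norm_num) (by norm_num) n11 n12 h6 q 1
  have e66 := xs_comm (r := r) (s := 66) (s' := 71) (by norm_num) (by norm_num) n13 n14 h7 q 1
  have e68 := xs_comm (r := r) (s := 68) (s' := 71) (by norm_num) (by norm_num) n15 n16 h8 p 1
  refine ⟨xs_comm (by norm_num) (by norm_num) p48.2.1 p48.2.2 p48.1 p q,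
    xs_comm (by norm_num) (by norm_num) p68.2.1 p68.2.2 p68.1 p q, ?_, ?_⟩
  · rw [← mul_assoc, e48, mul_assoc, mul_assoc, e50]
  · rw [← mul_assoc, e68, mul_assoc, mul_assoc, e66]

/-- **The final pair, `E₆(q)`.** -/
theorem fin6 (n : ℕ) {ε : (KK r)ˣ} {t : ↥(chevE6.group (KK r))} (h : TE ε t) {e : ℤ} (he : (ε : KK r) = (e : KK r))
    (he' : e = 1 ∨ e = -1) : ∃ a b : ↥(chevE6.group (KK r)), phi chevE6 (KK r) r n a = a ∧ a ^ r = 1 ∧
      phi chevE6 (KK r) r n b = b ∧ b ^ r = 1 ∧ a * xs hp6.inList 71 1 = xs hp6.inList 71 1 * a ∧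
      b * xs hp6.inList 71 1 = xs hp6.inList 71 1 * b ∧ ⁅tau t a * a⁻¹, b⁆ = xs hp6.inList 71 1 := by
  obtain ⟨k48, -, -, -⟩ := kap_vals he'
  have r1 : rho 48 = 50 := Cfsg.Agent.H368.G3.fin_check.2.2.1
  have hc := fin_commute (r := r) 1 0
  have hc' := fin_commute (r := r) (-1) 0
  rw [xs_zero, xs_zero, mul_one, mul_one] at hc hc'
  have hm : ((-1 : KK r)) ^ r ^ n = -1 := by
    have h2 : ((-1 : KK r)) ^ r ^ n = ((iterateFrobenius (KK r) r n) (-1)) := by rw [iterateFrobenius_def]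
    rw [h2, map_neg, map_one]
  refine ⟨xs hp6.inList 48 1, xs hp6.inList 68 (-1), ?_, xs_pow_r _ _, ?_, xs_pow_r _ _, hc.2.2.1, hc'.2.2.2, ?_⟩
  · rw [phi_xs (by norm_num), one_pow]
  · rw [phi_xs (by norm_num), hm]
  · rw [tau_xs h he (by norm_num), r1, k48, mul_one, xs_inv]
    have h3 := (fin_commute (r := r) (-1) ((e : ℤ) : KK r)).1
    rw [h3]
    have h4 := fin_comm (r := r) (-1) ((e : ℤ) : KK r) (-1) 0
    rw [xs_zero, mul_one] at h4
    rw [h4]
    congr 1
    ring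

theorem two_ne (hr2 : r ≠ 2) : (2 : KK r) ≠ 0 := by
  intro h3
  have h4 : ((2 : ℕ) : KK r) = 0 := by exact_mod_cast h3
  rw [CharP.cast_eq_zero_iff (KK r) r] at h4
  exact hr2 ((Nat.prime_dvd_prime_iff_eq (Fact.out : r.Prime) Nat.prime_two).1 h4)

/-- an element with `μ ^ q = - μ` -/
theorem exists_mu {n : ℕ} (hn0 : 0 < n) : ∃ μ : KK r, μ ≠ 0 ∧ μ ^ r ^ n = -μ := by
  have hr : r.Prime := Fact.out
  have h1 : 1 < r ^ n := Nat.one_lt_pow hn0.ne' hr.one_lt
  obtain ⟨μ, hμ⟩ := IsAlgClosed.exists_pow_nat_eq (-1 : KK r) (n := r ^ n - 1) (by omega)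
  refine ⟨μ, ?_, ?_⟩
  · rintro rfl
    rw [zero_pow (by omega)] at hμ
    exact neg_ne_zero.2 one_ne_zero hμ.symm
  · have h2 : r ^ n = (r ^ n - 1) + 1 := by omega
    rw [h2, pow_succ, hμ]
    ring

/-- **The final pair, `²E₆(q)`.** -/
theorem fin6T {n : ℕ} (hn0 : 0 < n) (hr2 : r ≠ 2) {ε : (KK r)ˣ} {t : ↥(chevE6.group (KK r))} (h : TE ε t) {e : ℤ}
    (he : (ε : KK r) = (e : KK r)) (he' : e = 1 ∨ e = -1) :
    ∃ a b : ↥(chevE6.group (KK r)), tau t (phi chevE6 (KK r) r n a) = a ∧ a ^ r = 1 ∧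
      tau t (phi chevE6 (KK r) r n b) = b ∧ b ^ r = 1 ∧ a * xs hp6.inList 71 1 = xs hp6.inList 71 1 * a ∧
      b * xs hp6.inList 71 1 = xs hp6.inList 71 1 * b ∧ ⁅tau t a * a⁻¹, b⁆ = xs hp6.inList 71 1 := by
  obtain ⟨k48, k50, k68, k66⟩ := kap_vals he'
  obtain ⟨-, r66, r48, r50, r68, -, -⟩ := Cfsg.Agent.H368.G3.fin_check
  have h2 := two_ne (r := r) hr2
  obtain ⟨μ, hμ0, hμ⟩ := exists_mu (r := r) hn0
  have hee : ((e : ℤ) : KK r) * ((e : ℤ) : KK r) = 1 := by
    rcases he' with rfl | rfl <;> norm_num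
  have heq : ((e : ℤ) : KK r) ^ r ^ n = ((e : ℤ) : KK r) := by
    have h3 : ((e : ℤ) : KK r) ^ r ^ n = ((iterateFrobenius (KK r) r n) ((e : ℤ) : KK r)) := by rw [iterateFrobenius_def]
    rw [h3, map_intCast]
  have h2q : (2 : KK r) ^ r ^ n = 2 := by
    have h3 : (2 : KK r) ^ r ^ n = ((iterateFrobenius (KK r) r n) (2 : KK r)) := by rw [iterateFrobenius_def]
    rw [h3, map_ofNat]
  obtain ⟨l, hl⟩ : ∃ l : KK r, l = -μ / 2 := ⟨_, rfl⟩
  obtain ⟨v, hv⟩ : ∃ v : KK r, v = 1 / (2 * μ) := ⟨_, rfl⟩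
  have hlq : l ^ r ^ n = -l := by
    have h5 : (-μ) ^ r ^ n = μ := by
      have h3 : (-μ) ^ r ^ n = ((iterateFrobenius (KK r) r n) (-μ)) := by rw [iterateFrobenius_def]
      rw [h3, map_neg, iterateFrobenius_def, hμ, neg_neg]
    rw [hl, div_pow, h5, h2q]
    ring
  have hvq : v ^ r ^ n = -v := by
    rw [hv, div_pow, mul_pow, one_pow, h2q, hμ]
    field_simp
  have key : ∀ (s : ℕ), s < 72 → rho s < 72 → rho (rho s) = s → kap e s = e → kap e (rho s) = e →
      (∀ p q : KK r, xs (D := chevE6) hp6.inList (rho s) q * xs hp6.inList s p =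
        xs hp6.inList s p * xs hp6.inList (rho s) q) → ∀ c : KK r, c ^ r ^ n = -c →
      tau t (phi chevE6 (KK r) r n (xs hp6.inList s c * xs hp6.inList (rho s) (-(e * c)))) =
        xs hp6.inList s c * xs hp6.inList (rho s) (-(e * c)) := by
    intro s hs hs' hρ hk hk' hcm c hc
    have h5 : (-((e : KK r) * c)) ^ r ^ n = e * c := by
      have h3 : (-((e : KK r) * c)) ^ r ^ n = ((iterateFrobenius (KK r) r n) (-((e : KK r) * c))) := by
        rw [iterateFrobenius_def]
      rw [h3, map_neg, map_mul, iterateFrobenius_def, iterateFrobenius_def, heq, hc]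
      ring
    rw [map_mul, phi_xs hs, phi_xs hs', hc, h5, map_mul, tau_xs h he hs, tau_xs h he hs', hρ, hk, hk', hcm]
    congr 1
    · congr 1
      rw [← mul_assoc, hee, one_mul]
    · congr 1
      ring
  have c48 := fun p q => (fin_commute (r := r) p q).1
  have c68 := fun p q => (fin_commute (r := r) p q).2.1
  have ka := key 48 (by norm_num) (by rw [r48]; norm_num) (by rw [r48, r50]) k48 (by rw [r48]; exact k50)
    (by rw [r48]; exact c48) l hlq
  have kb := key 68 (by norm_num) (by rw [r68]; norm_num) (by rw [r68, r66]) k68 (by rw [r68]; exact k66)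
    (by rw [r68]; exact c68) v hvq
  rw [r48] at ka
  rw [r68] at kb
  refine ⟨_, _, ka, ?_, kb, ?_, (fin_commute _ _).2.2.1, (fin_commute _ _).2.2.2, ?_⟩
  · have h3 : Commute (xs (D := chevE6) hp6.inList 48 l) (xs hp6.inList 50 (-(e * l))) := (c48 _ _).symm
    rw [h3.mul_pow, xs_pow_r, xs_pow_r, one_mul]
  · have h3 : Commute (xs (D := chevE6) hp6.inList 68 v) (xs hp6.inList 66 (-(e * v))) := (c68 _ _).symm
    rw [h3.mul_pow, xs_pow_r, xs_pow_r, one_mul]
  · have h3 : tau t (xs hp6.inList 48 l * xs hp6.inList 50 (-(e * l))) * (xs hp6.inList 48 l * xs hp6.inList 50 (-(e * l)))⁻¹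
        = xs hp6.inList 48 μ * xs hp6.inList 50 (-(e * μ)) := by
      rw [map_mul, tau_xs h he (by norm_num), tau_xs h he (by norm_num), r48, r50, k48, k50, c48, mul_inv_rev, xs_inv,
        xs_inv]
      have h4 : (e : KK r) * -(e * l) = -l := by
        rw [mul_neg, ← mul_assoc, hee, one_mul]
      rw [h4]
      calc xs (D := chevE6) hp6.inList 48 (-l) * xs hp6.inList 50 (e * l) *
            (xs hp6.inList 50 (- -(e * l)) * xs hp6.inList 48 (-l)) =
            xs hp6.inList 48 (-l) * (xs hp6.inList 50 (e * l) * xs hp6.inList 50 (- -(e * l))) *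
              xs hp6.inList 48 (-l) := by group
        _ = xs hp6.inList 48 (-l) * xs hp6.inList 48 (-l) * xs hp6.inList 50 (e * l + - -(e * l)) := by
            rw [xs_add, mul_assoc, c48, ← mul_assoc]
        _ = xs hp6.inList 48 μ * xs hp6.inList 50 (-(e * μ)) := by
            rw [xs_add]
            congr 2
            · rw [hl]; field_simp; ring
            · rw [hl]; field_simp; ring
    rw [h3, fin_comm]
    congr 1
    rw [hv]
    have h5 : -((e : KK r) * μ) * -(e * (1 / (2 * μ))) = (e * e) * (μ * (1 / (2 * μ))) := by ring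
    rw [h5, hee]
    field_simp
    norm_num

end Cfsg.Agent.H692.RG
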