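import Cfsg.Agent.H327.RG.TwSixG
import Cfsg.Agent.H321.IF.E6Norm
import Cfsg.Agent.H692.IFO.Lang

/-!
# The classes of the graph involutions of `E₆(q)` and `²E₆(q)`, `q` odd, over the closure (S3509, helper692)

`Y = E₆(k)`, `k` the closure of `𝔽_r`, `γ = gr`, `φ = phi n`.
* `TE ε t` : `t ∈ T(Y)`, `χ_{α_2}(t) = ε = ± 1`, `χ_{α_i}(t) = 1` for the other simple roots; `TE.sq`, `TE.phi`, `TE.gam`, `TE.ch`;
* `cls_e6` : an involution of graph type of `E₆(F)` is `conj t * γ` after conjugation by `v ∈ Y ^ φ`;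
* `cls_te6` : an involution of `Aut (²E₆(q))`, not inner: after conjugation by some `z ∈ Y` it is `conj t * γ`, and `φ` too;
* `mem_e6`, `mem_te6` : the `r`-elements.
-/

set_option autoImplicit false
set_option linter.unusedSectionVars false

namespace Cfsg.Agent.H692.RG

open CoxeterSystem Subgroup Cfsg Cfsg.Lie Cfsg.Lie.ChevalleyDatum
open Cfsg.Agent.ChevalleyStructure Cfsg.Agent.ChevalleyStructure.Elts Cfsg.Agent.ChevalleyStructure.CoxeterGeom
  Cfsg.Agent.ChevalleyStructure.CoxeterGeomTypes Cfsg.Agent.ChevalleyStructure.NPerm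
open Cfsg.Agent.Tits.Roots Cfsg.Agent.Nodes.RGDChev Cfsg.Agent.KFacts.RgdChevCoord
open Cfsg.Agent.BpExc.TowChev Cfsg.Agent.BpExc.FamUntw Cfsg.Agent.BpExc.LangFr Cfsg.Agent.BpExc.FamField
  Cfsg.Agent.BpExc.RowsUntw Cfsg.Agent.BpExc.FamInst
open Cfsg.Agent.ChevalleyStructure.GraphSymm (symmE6)
open Cfsg.Agent.H522.FamTw.Frame (sig6 rho6 fr_sig6 fr_six)
open Cfsg.Agent.BpExc.FamTw.Six (em em_injective coe_em)
open Cfsg.Agent.BpExc.FamTw.Gr
open Cfsg.Agent.GpExc.Field (glMap emb coe_emb glMap_xG emb_injective coe_glMap glMap_injective)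
open Cfsg.Agent.CpAut.RgdUntw
open Cfsg.Agent.H378.TorChar (tchar tchar_sr tchar_apply tchar_injective tchar_phi tchar_surjective lat lat_sr lat_apply
  ext_sr eq_lat)
open Cfsg.Agent.H469.Exc (KK)
open Cfsg.Agent.H28.GenF
open Cfsg.Agent.H296.ESixGF (hp6)
open Cfsg.Agent.H327.RG (form6 gr_emb IsGr IsGrT)

section Abs

variable {K₀ Y : Type*} [Group K₀] [Group Y] {ι : K₀ →* Y} {γ σ Φ : MulAut Y}

theorem cls_abs (hcen : ∀ z, (∀ a, z * ι a = ι a * z) → z = 1) (hσ : ∀ a, σ (ι a) = ι a)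
    (hγΦ : ∀ b, γ (Φ b) = Φ (γ b)) (hσΦ : ∀ b, σ (Φ b) = Φ (σ b)) {t u : Y} (hΦt : Φ t = t) {x ζ δ : MulAut K₀}
    (hζ : ∀ a, ι (ζ a) = u * Φ (ι a) * u⁻¹) (hδ : ∀ a, ι (δ a) = t * γ (ι a) * t⁻¹) (hx : ζ * x = δ * ζ) :
    ∃ v, σ v = v ∧ ∀ a, v * ι (x a) * v⁻¹ = t * γ (v * ι a * v⁻¹) * t⁻¹ := by
  obtain ⟨v, rfl⟩ := Φ.surjective u
  have hζ' : ∀ a, ι (ζ a) = Φ (v * ι a * v⁻¹) := fun a => by rw [hζ, map_mul, map_mul, map_inv]
  refine ⟨v, ?_, fun a => ?_⟩
  · have h1 : v⁻¹ * σ v = 1 := by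
      apply hcen
      intro a
      have h2 := hσ (ζ a)
      rw [hζ', hσΦ] at h2
      have h3 := Φ.injective h2
      rw [map_mul, map_mul, map_inv, hσ] at h3
      calc v⁻¹ * σ v * ι a = v⁻¹ * (σ v * ι a * (σ v)⁻¹) * σ v := by group
        _ = v⁻¹ * (v * ι a * v⁻¹) * σ v := by rw [h3]
        _ = ι a * (v⁻¹ * σ v) := by group
    exact (inv_mul_eq_one.1 h1).symm
  · apply Φ.injective
    have h1 : ζ (x a) = δ (ζ a) := by rw [← MulAut.mul_apply, hx]; rfl
    rw [← hζ', h1, hδ, hζ', hγΦ, map_mul Φ (t * γ _), map_mul Φ t, map_inv, hΦt]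

theorem tw_fix {G : Type*} [Group G] {e : G →* Y} {γ ψ : MulAut Y} {x : MulAut G} (hγ : ∀ b, γ (γ b) = b)
    (hcom : ∀ b, γ (ψ b) = ψ (γ b)) (hfix : ∀ g, γ (ψ (e g)) = e g)
    (hcen : ∀ c : Y, (∀ g, c * e g = e g * c) → c = 1) {y : Y} (hxy : ∀ g, e (x g) = y * γ (e g) * y⁻¹) :
    γ (ψ y) = y := by
  have h0 : γ (y⁻¹ * γ (ψ y)) = 1 := by
    apply hcen
    intro g
    have h1 := hfix (x g)
    have h2 : γ (ψ (γ (e g))) = γ (e g) := by rw [← hcom, hfix]
    rw [hxy, map_mul, map_mul, map_inv, map_mul, map_mul, map_inv, h2] at h1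
    have h3 : y⁻¹ * γ (ψ y) * γ (e g) = γ (e g) * (y⁻¹ * γ (ψ y)) := by
      calc y⁻¹ * γ (ψ y) * γ (e g) = y⁻¹ * (γ (ψ y) * γ (e g) * (γ (ψ y))⁻¹) * γ (ψ y) := by group
        _ = y⁻¹ * (y * γ (e g) * y⁻¹) * γ (ψ y) := by rw [h1]
        _ = γ (e g) * (y⁻¹ * γ (ψ y)) := by group
    have h4 := congrArg γ h3
    rwa [map_mul γ _ (γ (e g)), map_mul γ (γ (e g)), hγ] at h4
  have h5 := congrArg γ h0
  rw [hγ, map_one] at h5
  exact (inv_mul_eq_one.1 h5).symm

/-- the final conjugation -/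
theorem tw_fin {G : Type*} [Group G] {e : G →* Y} {γ ψ : MulAut Y} {x : MulAut G}
    (hfg : ∀ g, ψ (e g) = γ (e g)) {y : Y} (hxy : ∀ g, e (x g) = y * γ (e g) * y⁻¹) {z v t : Y} (hz : ψ z = z * y)
    (hv : ψ v = v) (hw : v * (z * y * (γ z)⁻¹) = t * γ v) : ψ (v * z) = t * γ (v * z) ∧
      (∀ g, (v * z) * e (x g) * (v * z)⁻¹ = t * γ ((v * z) * e g * (v * z)⁻¹) * t⁻¹) ∧
      ∀ g, (v * z) * e (x g) * (v * z)⁻¹ = ψ ((v * z) * e g * (v * z)⁻¹) := by
  have h1 : v * z * y = t * γ (v * z) := by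
    rw [map_mul, ← mul_assoc, ← hw]
    group
  have h2 : ψ (v * z) = v * z * y := by rw [map_mul, hv, hz, mul_assoc]
  refine ⟨h2.trans h1, fun g => ?_, fun g => ?_⟩
  · rw [hxy, map_mul, map_mul, map_inv]
    calc v * z * (y * γ (e g) * y⁻¹) * (v * z)⁻¹ = (v * z * y) * γ (e g) * (v * z * y)⁻¹ := by group
      _ = (t * γ (v * z)) * γ (e g) * (t * γ (v * z))⁻¹ := by rw [h1]
      _ = t * (γ (v * z) * γ (e g) * (γ (v * z))⁻¹) * t⁻¹ := by group
  · rw [hxy, map_mul, map_mul, map_inv, h2, hfg]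
    group

end Abs

variable {r : ℕ} [Fact r.Prime]

/-- the torus elements of the normal forms -/
structure TE (ε : (KK r)ˣ) (t : ↥(chevE6.group (KK r))) : Prop where
  eps : ε * ε = 1
  mem : t ∈ TT chevE6 (KK r)
  char : tchar hp6 ⟨t, mem⟩ = lat fun i : Fin 6 => if i = 1 then ε else 1

theorem eps_zpow {ε : (KK r)ˣ} (h : ε * ε = 1) (m : ℤ) : ε ^ (m + m) = 1 := by
  rw [zpow_add, ← mul_zpow, h, one_zpow]

theorem eps_pow {ε : (KK r)ˣ} (h : ε * ε = 1) (m : ℕ) : ε ^ r ^ m = ε := by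
  have h1 : (ε : KK r) = 1 ∨ (ε : KK r) = -1 := by
    rcases mul_self_eq_one_iff.1 (by rw [← Units.val_mul, h, Units.val_one] : (ε : KK r) * ε = 1) with h | h
    · exact Or.inl h
    · exact Or.inr h
  apply Units.ext
  rw [Units.val_pow_eq_pow_val]
  rcases h1 with h1 | h1
  · rw [h1, one_pow]
  · rw [h1]
    have h2 : ((-1 : KK r)) ^ r ^ m = ((iterateFrobenius (KK r) r m) (-1)) := by rw [iterateFrobenius_def]
    rw [h2, map_neg, map_one]

theorem TE.ext {ε : (KK r)ˣ} {t t' : ↥(chevE6.group (KK r))} (h : TE ε t) (ht' : t' ∈ TT chevE6 (KK r))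
    (h' : tchar hp6 ⟨t', ht'⟩ = lat fun i : Fin 6 => if i = 1 then ε else 1) : t' = t := by
  have h1 := tchar_injective hp6 (h'.trans h.char.symm)
  exact congrArg Subtype.val h1

theorem TE.exists {ε : (KK r)ˣ} (h : ε * ε = 1) : ∃ t, TE (r := r) ε t := by
  obtain ⟨t, ht⟩ := tchar_surjective (k := KK r) hp6 inv_E6 (by norm_num)
    (lat fun i : Fin 6 => if i = 1 then ε else 1)
  exact ⟨t.1, h, t.2, ht⟩

theorem TE.eq_one {t : ↥(chevE6.group (KK r))} (h : TE 1 t) : t = 1 := by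
  have h1 : (⟨t, h.mem⟩ : ↥(TT chevE6 (KK r))) = 1 := by
    apply tchar_injective hp6
    rw [h.char, map_one]
    refine ext_sr fun i => ?_
    rw [lat_sr]
    show _ = 1
    split_ifs <;> rfl
  exact congrArg Subtype.val h1

theorem TE.cases {ε : (KK r)ˣ} {t : ↥(chevE6.group (KK r))} (h : TE ε t) : ε = 1 ∨ ε = -1 := by
  rcases mul_self_eq_one_iff.1 (by rw [← Units.val_mul, h.eps, Units.val_one] : (ε : KK r) * ε = 1) with h | h
  · exact Or.inl (Units.ext h)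
  · exact Or.inr (Units.ext h)

theorem TE.sq {ε : (KK r)ˣ} {t : ↥(chevE6.group (KK r))} (h : TE ε t) : t * t = 1 := by
  have h1 : (⟨t, h.mem⟩ : ↥(TT chevE6 (KK r))) * ⟨t, h.mem⟩ = 1 := by
    apply tchar_injective hp6
    rw [map_mul, h.char, map_one]
    refine ext_sr fun i => ?_
    rw [MonoidHom.mul_apply, lat_sr]
    show _ = 1
    split_ifs
    · exact h.eps
    · exact one_mul 1
  exact congrArg Subtype.val h1

theorem TE.phi {ε : (KK r)ˣ} {t : ↥(chevE6.group (KK r))} (h : TE ε t) (m : ℕ) : phi chevE6 (KK r) r m t = t := by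
  refine h.ext (Cfsg.Agent.H378.TorChar.phi_mem hp6 r h.mem) ?_
  rw [tchar_phi hp6 r h.mem, h.char]
  refine ext_sr fun i => ?_
  rw [MonoidHom.pow_apply, lat_sr]
  split_ifs
  · exact eps_pow h.eps m
  · exact one_pow _

/-- the characters of `t` at the roots -/
theorem TE.ch {ε : (KK r)ˣ} {t : ↥(chevE6.group (KK r))} (h : TE ε t) {a : Fin 6 → ℤ}
    (ha : IsRoot CoxeterMatrix.E₆.toCoxeterSystem hp6.isCartan a) : ch hp6 a t = ((ε ^ a 1 : (KK r)ˣ) : KK r) := by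
  rw [← tchar_apply hp6 CoxeterMatrix.E₆.toCoxeterSystem (Cfsg.Agent.H469.Exc.locFin r) r ⟨t, h.mem⟩ ha, h.char,
    lat_apply]
  congr 1
  rw [Finset.prod_eq_single 1]
  · rw [if_pos rfl]
  · intro i _ hi
    rw [if_neg hi, one_zpow]
  · intro h
    exact absurd (Finset.mem_univ _) h

theorem gr_xc (i : Fin 6) (s : KK r) : gr (L := KK r) hp6.inList symmE6 (xc hp6 (sr i) s) = xc hp6 (sr (rho6 i)) s := by
  have h3 : ∀ (j : Fin 6) (s : KK r), xc hp6 (sr j) s = xg hp6.inList (chevE6.simple j) s := by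
    intro j s
    apply Subtype.ext
    rw [← vec_simple hp6 j, coe_xc hp6 (simple_lt hp6.inList (lt_rank hp6 j))]
    rfl
  rw [h3, h3]
  have h4 := gr_xg (L := KK r) hp6.inList symmE6 ⟨chevE6.simple i, H522.FamTw.Frame.simple_lt6 i⟩ s
  rw [H522.FamTw.Frame.simple_eps6, Int.cast_one, one_mul, H522.FamTw.Frame.simple_map6] at h4
  exact h4

theorem gr_tor {t : ↥(chevE6.group (KK r))} (ht : t ∈ TT chevE6 (KK r)) :
    gr (L := KK r) hp6.inList symmE6 t ∈ TT chevE6 (KK r) :=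
  ((fr_six (k := KK r) hp6 CoxeterMatrix.E₆.toCoxeterSystem).tor t).2 ht

theorem ch_gr {t : ↥(chevE6.group (KK r))} (ht : t ∈ TT chevE6 (KK r)) (i : Fin 6) :
    ch hp6 (sr (rho6 i)) (gr (L := KK r) hp6.inList symmE6 t) = ch hp6 (sr i) t := by
  have C := coordsL (k := KK r) hp6 CoxeterMatrix.E₆.toCoxeterSystem (Cfsg.Agent.H469.Exc.locFin r) r
  have hri := isRoot_sr CoxeterMatrix.E₆.toCoxeterSystem hp6.isCartan i
  have hri' := isRoot_sr CoxeterMatrix.E₆.toCoxeterSystem hp6.isCartan (rho6 i)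
  have h1 := congrArg (gr (L := KK r) hp6.inList symmE6) ((C.coord _ hri).act t ht 1)
  rw [map_mul, map_mul, map_inv, gr_xc, gr_xc, (C.coord _ hri').act _ (gr_tor ht) 1, mul_one, mul_one] at h1
  exact (C.coord _ hri').inj h1

theorem TE.gam {ε : (KK r)ˣ} {t : ↥(chevE6.group (KK r))} (h : TE ε t) :
    gr (L := KK r) hp6.inList symmE6 t = t := by
  refine h.ext (gr_tor h.mem) (ext_sr fun i => Units.ext ?_)
  have hρρ : ∀ i, rho6 (rho6 i) = i := by decide
  rw [tchar_sr, ← hρρ i, ch_gr h.mem, ← tchar_sr hp6 ⟨t, h.mem⟩, h.char, lat_sr, lat_sr]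
  have h2 : (rho6 i = 1) = (rho6 (rho6 i) = 1) := by
    revert i
    decide
  simp only [h2]

/-! ### `gr` is a graph automorphism -/

theorem gr_isGraph {L : Type*} [Field L] : chevE6.IsGraphAut (gr (L := L) hp6.inList symmE6) := by
  refine ⟨Cfsg.Agent.H296.ESixGF.rho6, Cfsg.Agent.H296.ESixGF.rho6_symm, fun g i t => ⟨fun h => ?_, fun h => ?_⟩⟩
  · rw [(Cfsg.Agent.H79.SimpleGen.eq_xS_iff hp6.inList g _ t).2 h]
    exact (Cfsg.Agent.H79.SimpleGen.eq_xS_iff hp6.inList _ _ _).1 (Cfsg.Agent.H296.ESixGF.gr_isGr i t).1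
  · rw [(Cfsg.Agent.H79.SimpleGen.eq_xS_iff hp6.inList g _ t).2 h]
    exact (Cfsg.Agent.H79.SimpleGen.eq_xS_iff hp6.inList _ _ _).1 (Cfsg.Agent.H296.ESixGF.gr_isGr i t).2

theorem gr_ne_one {L : Type*} [Field L] : gr (L := L) hp6.inList symmE6 ≠ 1 := by
  intro h
  have h1 := (Cfsg.Agent.H296.ESixGF.gr_isGr (L := L) (0 : Fin 6) 1).1
  rw [h, MulAut.one_apply, one_pow] at h1
  have h2 := congrArg Subtype.val h1
  have h3 := Cfsg.Agent.H522.FamTw.Cent.co_self (hD := hp6.inList) (F := L) 0 1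
  have h4 := Cfsg.Agent.H522.FamTw.Cent.co_ne (hD := hp6.inList) (F := L) (i := 0) (r := chevE6.simple 5) (by decide +kernel)
    (by decide +kernel) 1
  have h5 : Cfsg.Agent.H522.FamTw.Cent.Co hp6.inList 0 (Cfsg.Agent.ChevalleyStructure.Elts.xG hp6.inList
    (chevE6.simple 0) (1 : L)) 0 := by
    have h6 : Cfsg.Agent.ChevalleyStructure.Elts.xG hp6.inList (chevE6.simple 0) (1 : L) =
      Cfsg.Agent.ChevalleyStructure.Elts.xG hp6.inList (chevE6.simple 5) (1 : L) := h2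
    rw [h6]
    exact h4
  exact one_ne_zero (Cfsg.Agent.H522.FamTw.Cent.Co.unique (by decide) h3 h5)

theorem gam_sq (b : ↥(chevE6.group (KK r))) : gr (L := KK r) hp6.inList symmE6 (gr hp6.inList symmE6 b) = b := by
  rw [← MulAut.mul_apply, Cfsg.Agent.H296.ESixGF.gr_sq6]
  rfl

theorem gam_phi (n : ℕ) (b : ↥(chevE6.group (KK r))) : gr (L := KK r) hp6.inList symmE6 (phi chevE6 (KK r) r n b) =
    phi chevE6 (KK r) r n (gr (L := KK r) hp6.inList symmE6 b) := by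
  have hco : Commute (gr (L := KK r) hp6.inList symmE6) (phi chevE6 (KK r) r n) :=
    Cfsg.Agent.BpExc.FamTw.Gr.gr_mul_fld hp6.inList symmE6 _
  rw [← MulAut.mul_apply, hco.eq, MulAut.mul_apply]

theorem phi_phi (n m : ℕ) (b : ↥(chevE6.group (KK r))) :
    phi chevE6 (KK r) r n (phi chevE6 (KK r) r m b) = phi chevE6 (KK r) r m (phi chevE6 (KK r) r n b) := by
  rw [← MulAut.mul_apply, ← MulAut.mul_apply, H296.Core.phi_mul, H296.Core.phi_mul, add_comm]

/-! ### the classes -/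

/-- **The normal form of a graph involution `x` of `K₀`.** -/
structure GrD {K₀ : Type*} [Group K₀] (n : ℕ) (x : MulAut K₀) (t : ↥(chevE6.group (KK r)))
    (κ : K₀ →* ↥(chevE6.group (KK r))) : Prop where
  inj : Function.Injective κ
  cen : ∀ c, (∀ a, c * κ a = κ a * c) → c = 1
  act : ∀ a, κ (x a) = t * gr (L := KK r) hp6.inList symmE6 (κ a) * t⁻¹
  frob : (∀ a, phi chevE6 (KK r) r n (κ a) = κ a) ∨ ∀ a, phi chevE6 (KK r) r n (κ a) = κ (x a)
  surj : ∀ b, phi chevE6 (KK r) r n b = b → t * gr (L := KK r) hp6.inList symmE6 b * t⁻¹ = b →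
    (∃ m, b ^ r ^ m = 1) → ∃ a, x a = a ∧ κ a = b

theorem lift_comm {K₀ Y : Type*} [Group K₀] [Group Y] {κ : K₀ →* Y} (hcen : ∀ c, (∀ a, c * κ a = κ a * c) → c = 1)
    {x α : MulAut K₀} {τ : MulAut Y} (hact : ∀ a, κ (x a) = τ (κ a)) (hα : α * x = x * α) {y : Y}
    (hy : ∀ a, κ (α a) = y * κ a * y⁻¹) : τ y = y := by
  have h1 : y⁻¹ * τ y = 1 := by
    apply hcen
    intro b
    obtain ⟨a, rfl⟩ := x.surjective b
    have h2 : κ (α (x a)) = κ (x (α a)) := by rw [← MulAut.mul_apply, hα]; rfl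
    rw [hy, hact (α a), hy, map_mul, map_mul, map_inv, ← hact] at h2
    calc y⁻¹ * τ y * κ (x a) = y⁻¹ * (τ y * κ (x a) * (τ y)⁻¹) * τ y := by group
      _ = y⁻¹ * (y * κ (x a) * y⁻¹) * τ y := by rw [h2]
      _ = κ (x a) * (y⁻¹ * τ y) := by group
  exact (inv_mul_eq_one.1 h1).symm

/-- the inner-diagonal automorphisms commuting with `x` -/
theorem GrD.lift {K₀ : Type*} [Group K₀] {n : ℕ} {x : MulAut K₀} {t : ↥(chevE6.group (KK r))}
    {κ : K₀ →* ↥(chevE6.group (KK r))} (h : GrD n x t κ) {α : MulAut K₀} (hα : α * x = x * α)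
    {y : ↥(chevE6.group (KK r))} (hy : ∀ a, κ (α a) = y * κ a * y⁻¹) :
    phi chevE6 (KK r) r n y = y ∧ t * gr (L := KK r) hp6.inList symmE6 y * t⁻¹ = y := by
  refine ⟨?_, ?_⟩
  · rcases h.frob with h1 | h1
    · exact lift_comm h.cen (x := 1) (fun a => (h1 a).symm) (by rw [one_mul, mul_one]) hy
    · exact lift_comm h.cen (fun a => (h1 a).symm) hα hy
  · exact lift_comm (τ := MulAut.conj t * gr (L := KK r) hp6.inList symmE6) h.cen h.act hα hy

/-! ### `E₆(q)` -/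

section Untw

variable {F : Type} [Field F] [Fintype F] [CharP F r] (f : F →+* KK r) {n : ℕ}

theorem cen6 (c : ↥(chevE6.group (KK r))) (hc : ∀ a, c * emb hp6.inList f a = emb hp6.inList f a * c) : c = 1 := by
  have hk1 := S1054.result (F := KK r) chevE6 (by simp)
  exact Cfsg.Agent.BpExc.FamUntw.eq_one_of_comm hp6 (Cfsg.Agent.H469.Exc.locFin r) r f
    (Cfsg.Agent.H522.FldUntw.center_eq_bot hk1.1 hk1.2) hc

/-- the element over the graph automorphism is fixed by the Frobenius automorphism -/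
theorem fix_of_isGr (hn : Nat.card F = r ^ n) {x : MulAut ↥(chevE6.group F)} {y : ↥(chevE6.group (KK r))}
    (hy : ∀ a, emb hp6.inList f (x a) = y * gr (L := KK r) hp6.inList symmE6 (emb hp6.inList f a) * y⁻¹) :
    phi chevE6 (KK r) r n y = y := by
  have h0 : ∀ a, phi chevE6 (KK r) r n (emb hp6.inList f a) = emb hp6.inList f a := fun a =>
    Cfsg.Agent.H692.IFO.Lang.emb_phi f hn (Nat.card_eq_fintype_card.symm) a
  have h1 : y⁻¹ * phi chevE6 (KK r) r n y = 1 := by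
    apply cen6 f
    intro b
    obtain ⟨a, rfl⟩ : ∃ a, gr hp6.inList symmE6 a = b :=
      (gr (L := F) hp6.inList symmE6).surjective b
    have h2 := h0 (x a)
    rw [hy, map_mul, map_mul, map_inv, ← gr_emb f a, h0] at h2
    have h3 : emb hp6.inList f (gr hp6.inList symmE6 a) = emb e6T.inList f (gr e6T.inList symmE6 a) := rfl
    rw [h3]
    calc y⁻¹ * phi chevE6 (KK r) r n y * emb e6T.inList f (gr e6T.inList symmE6 a) =
          y⁻¹ * (phi chevE6 (KK r) r n y * emb e6T.inList f (gr e6T.inList symmE6 a) *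
            (phi chevE6 (KK r) r n y)⁻¹) * phi chevE6 (KK r) r n y := by group
      _ = y⁻¹ * (y * emb e6T.inList f (gr e6T.inList symmE6 a) * y⁻¹) * phi chevE6 (KK r) r n y := by rw [h2]
      _ = emb e6T.inList f (gr e6T.inList symmE6 a) * (y⁻¹ * phi chevE6 (KK r) r n y) := by group
  exact (inv_mul_eq_one.1 h1).symm

/-- **The classes of the graph involutions of `E₆(F)`.** -/
theorem cls_e6 (hn : Nat.card F = r ^ n) (hr2 : r ≠ 2) {x : MulAut ↥(chevE6.group F)} (hx : x * x = 1)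
    (hg : IsGr f x) : ∃ (v t : ↥(chevE6.group (KK r))) (ε : (KK r)ˣ), TE ε t ∧ phi chevE6 (KK r) r n v = v ∧
      ∀ a, v * emb hp6.inList f (x a) * v⁻¹ =
        t * gr (L := KK r) hp6.inList symmE6 (v * emb hp6.inList f a * v⁻¹) * t⁻¹ := by
  obtain ⟨y, hy⟩ := hg
  have hw := fix_of_isGr f hn hy
  obtain ⟨y', d, hd, hyd⟩ := Cfsg.Agent.H692.IFO.Lang.aut_of_fix f hn (Nat.card_eq_fintype_card.symm) hw
  have hxd : ∀ a, x a = y' * d (gr hp6.inList symmE6 a) * y'⁻¹ := by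
    intro a
    apply emb_injective hp6.inList f
    exact (hy a).trans (hyd a).symm
  have h2 : (2 : F) ≠ 0 := by
    refine Ring.two_ne_zero ?_
    rw [← CharP.eq F (ringChar.charP F) (inferInstance : CharP F r)] at hr2
    exact hr2
  obtain ⟨ζ, d', ε0, hε0, hd', hx1⟩ := Cfsg.Agent.H321.IFE6.norm_form_fin h2 hx hd gr_isGraph gr_ne_one hxd
  -- the torus element
  obtain ⟨t, ht, htd⟩ := Cfsg.Agent.H296.Core.diag_ext hp6 f inv_E6 (by norm_num : (3 : ℕ) ≠ 0)
    (fun c _ => IsAlgClosed.exists_pow_nat_eq _ (by norm_num))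
    ((Cfsg.Agent.H79.DiagAuts.diagFacts hp6.inList F).isDiag _ d' hd')
  have hTE : TE (Units.map (f : F →* KK r) ε0) t := by
    refine ⟨by rw [← map_mul, hε0, map_one], ht, ext_sr fun i => Units.ext ?_⟩
    rw [tchar_sr, lat_sr]
    have h1 := (hd' i 1).1
    have h3 := htd (Cfsg.Agent.H79.SimpleGen.xS hp6.inList (chevE6.simple i) 1)
    rw [h1] at h3
    have h4 : ∀ c : F, emb hp6.inList f (Cfsg.Agent.H79.SimpleGen.xS hp6.inList (chevE6.simple i) c) =
        xc hp6 (sr i) (f c) := by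
      intro c
      apply Subtype.ext
      rw [coe_emb, ← vec_simple hp6 i, coe_xc hp6 (simple_lt hp6.inList (lt_rank hp6 i))]
      exact glMap_xG _ _ _ _
    rw [h4, h4] at h3
    have C := coordsL (k := KK r) hp6 CoxeterMatrix.E₆.toCoxeterSystem (Cfsg.Agent.H469.Exc.locFin r) r
    have hri := isRoot_sr CoxeterMatrix.E₆.toCoxeterSystem hp6.isCartan i
    rw [(C.coord _ hri).act t ht (f 1)] at h3
    have h5 := (C.coord _ hri).inj h3
    rw [map_one, mul_one, mul_one] at h5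
    rw [← h5]
    show f ((if i = 1 then ε0 else 1 : Fˣ) : F) = ((if i = 1 then Units.map (f : F →* KK r) ε0 else 1 : (KK r)ˣ) : KK r)
    split_ifs
    · rfl
    · exact map_one f
  have hx2 : ζ * x = (d' * gr hp6.inList symmE6) * ζ := by
    rw [hx1]
    group
  have hδ : ∀ a, emb hp6.inList f ((d' * gr hp6.inList symmE6 : MulAut ↥(chevE6.group F)) a) =
      t * gr (L := KK r) hp6.inList symmE6 (emb hp6.inList f a) * t⁻¹ := by
    intro a
    rw [MulAut.mul_apply, htd]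
    congr 2
    exact gr_emb f a
  have hσ : ∀ a, phi chevE6 (KK r) r n (emb hp6.inList f a) = emb hp6.inList f a := fun a =>
    Cfsg.Agent.H692.IFO.Lang.emb_phi f hn (Nat.card_eq_fintype_card.symm) a
  obtain ⟨m, u, hζ⟩ := form6 f ζ
  rcases hζ with hζ | hζ
  · obtain ⟨v, hv, h⟩ := cls_abs (ι := emb hp6.inList f) (cen6 f) hσ (γ := gr hp6.inList symmE6)
      (Φ := phi chevE6 (KK r) r m) (gam_phi m) (phi_phi n m) (hTE.phi m) hζ hδ hx2
    exact ⟨v, t, _, hTE, hv, h⟩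
  · obtain ⟨v, hv, h⟩ := cls_abs (ι := emb hp6.inList f) (cen6 f) hσ (γ := gr hp6.inList symmE6)
      (Φ := sig6 (KK r) r m) (fun b => by
        show gr (L := KK r) hp6.inList symmE6 (gr (L := KK r) hp6.inList symmE6 (phi chevE6 (KK r) r m b)) =
          gr (L := KK r) hp6.inList symmE6 (phi chevE6 (KK r) r m (gr (L := KK r) hp6.inList symmE6 b))
        rw [gam_phi]) (fun b => by
        show phi chevE6 (KK r) r n (gr (L := KK r) hp6.inList symmE6 (phi chevE6 (KK r) r m b)) =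
          gr (L := KK r) hp6.inList symmE6 (phi chevE6 (KK r) r m (phi chevE6 (KK r) r n b))
        rw [← gam_phi, phi_phi]) (by
        show gr (L := KK r) hp6.inList symmE6 (phi chevE6 (KK r) r m t) = t
        rw [hTE.phi, hTE.gam]) hζ hδ hx2
    exact ⟨v, t, _, hTE, hv, h⟩

/-- **`E₆(q)`, `q` odd.** -/
theorem grD_e6 (hn : Nat.card F = r ^ n) (hr2 : r ≠ 2) {x : MulAut ↥(chevE6.group F)} (hx : x * x = 1)
    (hg : IsGr f x) : ∃ (v t : ↥(chevE6.group (KK r))) (ε : (KK r)ˣ), TE ε t ∧ phi chevE6 (KK r) r n v = v ∧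
      GrD n x t ((MulAut.conj v).toMonoidHom.comp (emb hp6.inList f)) := by
  obtain ⟨v, t, ε, h, hv, hx1⟩ := cls_e6 f hn hr2 hx hg
  have hσ : ∀ a, phi chevE6 (KK r) r n (emb hp6.inList f a) = emb hp6.inList f a := fun a =>
    Cfsg.Agent.H692.IFO.Lang.emb_phi f hn (Nat.card_eq_fintype_card.symm) a
  have hinj : Function.Injective ((MulAut.conj v).toMonoidHom.comp (emb hp6.inList f)) :=
    (MulAut.conj v).injective.comp (emb_injective hp6.inList f)
  refine ⟨v, t, ε, h, hv, ⟨hinj, fun c hc => ?_, hx1, Or.inl fun a => ?_, fun b hb hτ ⟨m, hm⟩ => ?_⟩⟩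
  · have h1 : v⁻¹ * c * v = 1 := by
      apply cen6 f
      intro a
      have h2 : c * (v * emb hp6.inList f a * v⁻¹) = (v * emb hp6.inList f a * v⁻¹) * c := hc a
      calc v⁻¹ * c * v * emb hp6.inList f a = v⁻¹ * (c * (v * emb hp6.inList f a * v⁻¹)) * v := by group
        _ = v⁻¹ * ((v * emb hp6.inList f a * v⁻¹) * c) * v := by rw [h2]
        _ = emb hp6.inList f a * (v⁻¹ * c * v) := by group
    calc c = v * (v⁻¹ * c * v) * v⁻¹ := by group
      _ = 1 := by rw [h1]; group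
  · show phi chevE6 (KK r) r n (v * emb hp6.inList f a * v⁻¹) = v * emb hp6.inList f a * v⁻¹
    rw [map_mul, map_mul, map_inv, hv, hσ]
  · obtain ⟨a, ha⟩ := Cfsg.Agent.H28.GenF.mem_emb_of_pow hp6 f hn (y := v⁻¹ * b * v) (j := m)
      (by rw [map_mul, map_mul, map_inv, hv, hb]) (by
        have h1 := conj_pow (i := r ^ m) (a := v⁻¹) (b := b)
        rw [inv_inv] at h1
        rw [h1, hm]
        group)
    have hb2 : v * emb hp6.inList f a * v⁻¹ = b := by rw [ha]; group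
    refine ⟨a, ?_, hb2⟩
    apply hinj
    show v * emb hp6.inList f (x a) * v⁻¹ = v * emb hp6.inList f a * v⁻¹
    rw [hx1, hb2, hτ]

/-- the `r`-elements of `Fix φ` -/
theorem rng_e6 (hn : Nat.card F = r ^ n) {v : ↥(chevE6.group (KK r))} (hv : phi chevE6 (KK r) r n v = v)
    {y : ↥(chevE6.group (KK r))} (hy : phi chevE6 (KK r) r n y = y) {k : ℕ} (hk : y ^ r ^ k = 1) :
    ∃ a, v * emb hp6.inList f a * v⁻¹ = y := by
  obtain ⟨a, ha⟩ := Cfsg.Agent.H28.GenF.mem_emb_of_pow hp6 f hn (y := v⁻¹ * y * v) (j := k)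
    (by rw [map_mul, map_mul, map_inv, hv, hy]) (by
      have h1 := conj_pow (i := r ^ k) (a := v⁻¹) (b := y)
      rw [inv_inv] at h1
      rw [h1, hk]
      group)
  exact ⟨a, by rw [ha]; group⟩

end Untw

/-! ### `²E₆(q)` -/

section Tw

variable {K : Type} [Field K] [Fintype K] [CharP K r] (f : K →+* KK r) {q n : ℕ}

/-- **The classes of the graph involutions of `²E₆(q)`, `q` odd.** -/
theorem cls_te6 (hn0 : 0 < n) (hn : q = r ^ n) (hK : Fintype.card K = q ^ 2) (hr2 : r ≠ 2)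
    {x : MulAut ↥(twistedE6 K q)} (hx : x * x = 1) (hg : IsGrT f x) :
    ∃ (z t : ↥(chevE6.group (KK r))) (ε : (KK r)ˣ), TE ε t ∧
      (phi chevE6 (KK r) r n z = t * gr (L := KK r) hp6.inList symmE6 z) ∧
      (∀ g, z * em q f (x g) * z⁻¹ = t * gr (L := KK r) hp6.inList symmE6 (z * em q f g * z⁻¹) * t⁻¹) ∧
      ∀ g, z * em q f (x g) * z⁻¹ = phi chevE6 (KK r) r n (z * em q f g * z⁻¹) := by
  have hrp : r.Prime := Fact.out
  obtain ⟨y, hy0⟩ := hg
  have hfix : ∀ g, gr (L := KK r) hp6.inList symmE6 (phi chevE6 (KK r) r n (em q f g)) = em q f g := fun g =>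
    Cfsg.Agent.H522.FamTw.Six.em_fix f r hn0 hn hK g
  have hfg : ∀ g, phi chevE6 (KK r) r n (em q f g) = gr (L := KK r) hp6.inList symmE6 (em q f g) := fun g =>
    Cfsg.Agent.H692.IFO.Lang.psi_eq Cfsg.Agent.H296.ESixGF.gr_sq6 (hfix g)
  have hxy : ∀ g, em q f (x g) = y * phi chevE6 (KK r) r n (em q f g) * y⁻¹ := fun g => by
    rw [hfg]
    exact hy0 g
  have hcen := Cfsg.Agent.H692.IFO.Lang.hone6 f hn0 hn hK
  have hy1 : ∀ g, em q f (x g) = y * gr (L := KK r) hp6.inList symmE6 (em q f g) * y⁻¹ := hy0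
  have hσy := tw_fix (e := em q f) gam_sq (gam_phi n) hfix hcen hy1
  have hγγ : gr (L := KK r) hp6.inList symmE6 * gr hp6.inList symmE6 = 1 := Cfsg.Agent.H296.ESixGF.gr_sq6
  have hyy := Cfsg.Agent.H692.IFO.Lang.mul_gam (e := em q f) hγγ hfix hcen hx hxy
  obtain ⟨z, hz⟩ := lang_all hp6 CoxeterMatrix.E₆.toCoxeterSystem (p := r) (e := n) hn0 (phi_isFrob r n)
    (phi_fr hp6 CoxeterMatrix.E₆.toCoxeterSystem r (Cfsg.Agent.H469.Exc.locFin r) n) 1 y
  rw [map_one, one_mul] at hz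
  have hz' : phi chevE6 (KK r) r n z = z * y := by rw [hz]; group
  obtain ⟨hw1, hw2, -⟩ := Cfsg.Agent.H692.IFO.Lang.core hγγ (gam_phi n) hσy hyy hz
  -- the field with `q` elements
  have : Fintype (GaloisField r n) := Fintype.ofFinite _
  have hF : Nat.card (GaloisField r n) = r ^ n := GaloisField.card r n hn0.ne'
  obtain ⟨f1⟩ := exists_emb r (GaloisField r n)
  obtain ⟨w, hw⟩ : ∃ w, w = z * y * (gr (L := KK r) hp6.inList symmE6 z)⁻¹ := ⟨_, rfl⟩
  rw [← hw] at hw1 hw2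
  obtain ⟨y', d, hd, hyd⟩ := Cfsg.Agent.H692.IFO.Lang.aut_of_fix f1 hF.symm.symm (Nat.card_eq_fintype_card.symm) hw1
  obtain ⟨x', hx'⟩ : ∃ x' : MulAut ↥(chevE6.group (GaloisField r n)), x' =
    MulAut.conj y' * d * gr hp6.inList symmE6 := ⟨_, rfl⟩
  rw [← hx'] at hyd
  have hx2 : x' * x' = 1 := by
    apply MulEquiv.ext
    intro a
    apply emb_injective hp6.inList f1
    have h0 : emb hp6.inList f1 ((x' * x' : MulAut ↥(chevE6.group (GaloisField r n))) a) =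
        w * gr (L := KK r) hp6.inList symmE6 (w * gr (L := KK r) hp6.inList symmE6 (emb hp6.inList f1 a) * w⁻¹) *
          w⁻¹ := by
      rw [MulAut.mul_apply, hyd, hyd]
    rw [h0, map_mul, map_mul, map_inv, gam_sq]
    have h1 : w * (gr (L := KK r) hp6.inList symmE6 w * emb hp6.inList f1 a * (gr hp6.inList symmE6 w)⁻¹) * w⁻¹ =
        (w * gr (L := KK r) hp6.inList symmE6 w) * emb hp6.inList f1 a * (w * gr hp6.inList symmE6 w)⁻¹ := by group
    rw [h1, hw2, one_mul, inv_one, mul_one, MulAut.one_apply]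
  obtain ⟨v, t, ε, hTE, hv, hvx⟩ := cls_e6 f1 hF hr2 hx2 ⟨w, hyd⟩
  have hvw : v * w = t * gr (L := KK r) hp6.inList symmE6 v := by
    have h1 : (v * w)⁻¹ * (t * gr (L := KK r) hp6.inList symmE6 v) = 1 := by
      apply cen6 f1
      intro b
      obtain ⟨a, rfl⟩ : ∃ a, gr hp6.inList symmE6 a = b :=
        (gr (L := GaloisField r n) hp6.inList symmE6).surjective b
      have h2 := hvx a
      rw [hyd, map_mul, map_mul, map_inv] at h2
      have h3 : emb hp6.inList f1 (gr hp6.inList symmE6 a) = gr (L := KK r) hp6.inList symmE6 (emb hp6.inList f1 a) :=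
        gr_emb f1 a
      rw [h3]
      generalize gr (L := KK r) hp6.inList symmE6 (emb hp6.inList f1 a) = E at h2
      generalize gr (L := KK r) hp6.inList symmE6 v = v' at h2
      calc (v * w)⁻¹ * (t * v') * E = (v * w)⁻¹ * (t * (v' * E * v'⁻¹) * t⁻¹) * (t * v') := by group
        _ = (v * w)⁻¹ * (v * (w * E * w⁻¹) * v⁻¹) * (t * v') := by rw [h2]
        _ = E * ((v * w)⁻¹ * (t * v')) := by group
    exact inv_mul_eq_one.1 h1
  rw [hw] at hvw
  obtain ⟨h1, h2, h3⟩ := tw_fin (e := em q f) hfg hy1 hz' hv hvw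
  exact ⟨v * z, t, ε, hTE, h1, h2, h3⟩

/-- **`²E₆(q)`, `q` odd.** -/
theorem grD_te6 (hn0 : 0 < n) (hn : q = r ^ n) (hK : Fintype.card K = q ^ 2) (hr2 : r ≠ 2)
    {x : MulAut ↥(twistedE6 K q)} (hx : x * x = 1) (hg : IsGrT f x) :
    ∃ (z t : ↥(chevE6.group (KK r))) (ε : (KK r)ˣ), TE ε t ∧
      (phi chevE6 (KK r) r n z = t * gr (L := KK r) hp6.inList symmE6 z) ∧
      GrD n x t ((MulAut.conj z).toMonoidHom.comp (em q f)) := by
  obtain ⟨z, t, ε, h, hz, h1, h2⟩ := cls_te6 f hn0 hn hK hr2 hx hg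
  have hcen := Cfsg.Agent.H692.IFO.Lang.hone6 f hn0 hn hK
  have hinj : Function.Injective ((MulAut.conj z).toMonoidHom.comp (em q f)) :=
    (MulAut.conj z).injective.comp (em_injective f)
  refine ⟨z, t, ε, h, hz, ⟨hinj, fun c hc => ?_, h1, Or.inr fun a => (h2 a).symm, fun b hb hτ ⟨m, hm⟩ => ?_⟩⟩
  · have h1 : z⁻¹ * c * z = 1 := by
      apply hcen
      intro a
      have h2 : c * (z * em q f a * z⁻¹) = (z * em q f a * z⁻¹) * c := hc a
      calc z⁻¹ * c * z * em q f a = z⁻¹ * (c * (z * em q f a * z⁻¹)) * z := by group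
        _ = z⁻¹ * ((z * em q f a * z⁻¹) * c) * z := by rw [h2]
        _ = em q f a * (z⁻¹ * c * z) := by group
    calc c = z * (z⁻¹ * c * z) * z⁻¹ := by group
      _ = 1 := by rw [h1]; group
  · have htt := h.sq
    have hti : t⁻¹ = t := inv_eq_of_mul_eq_one_left htt
    have hτb : gr (L := KK r) hp6.inList symmE6 b = t * b * t := by
      calc gr (L := KK r) hp6.inList symmE6 b = t⁻¹ * (t * gr (L := KK r) hp6.inList symmE6 b * t⁻¹) * t := by group
        _ = t * b * t := by rw [hτ, hti]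
    have hσz : gr (L := KK r) hp6.inList symmE6 (phi chevE6 (KK r) r n z) = t * z := by
      rw [hz, map_mul, gam_sq, h.gam]
    obtain ⟨a, ha⟩ : z⁻¹ * b * z ∈ (em q f).range := by
      refine Cfsg.Agent.H692.IFO.Lang.mem_range_of_rpow f hn0 hn hK (m := m) ?_ ?_
      · rw [MulAut.mul_apply]
        show gr (L := KK r) hp6.inList symmE6 (phi chevE6 (KK r) r n (z⁻¹ * b * z)) = z⁻¹ * b * z
        simp only [map_mul, map_inv]
        rw [hb, hσz, hτb]
        calc (t * z)⁻¹ * (t * b * t) * (t * z) = z⁻¹ * b * (t * t) * z := by group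
          _ = z⁻¹ * b * z := by rw [htt, mul_one]
      · have h1 := conj_pow (i := r ^ m) (a := z⁻¹) (b := b)
        rw [inv_inv] at h1
        rw [h1, hm]
        group
    have hb2 : z * em q f a * z⁻¹ = b := by rw [ha]; group
    refine ⟨a, ?_, hb2⟩
    apply hinj
    show z * em q f (x a) * z⁻¹ = z * em q f a * z⁻¹
    rw [h1, hb2, hτ]

/-- the `r`-elements of `Fix (τ φ)` -/
theorem rng_te6 (hn0 : 0 < n) (hn : q = r ^ n) (hK : Fintype.card K = q ^ 2) {z t : ↥(chevE6.group (KK r))}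
    {ε : (KK r)ˣ} (h : TE ε t) (hz : phi chevE6 (KK r) r n z = t * gr (L := KK r) hp6.inList symmE6 z)
    {y : ↥(chevE6.group (KK r))} (hy : t * gr (L := KK r) hp6.inList symmE6 (phi chevE6 (KK r) r n y) * t⁻¹ = y)
    {k : ℕ} (hk : y ^ r ^ k = 1) : ∃ a, z * em q f a * z⁻¹ = y := by
  have htt := h.sq
  have hti : t⁻¹ = t := inv_eq_of_mul_eq_one_left htt
  have hσy : gr (L := KK r) hp6.inList symmE6 (phi chevE6 (KK r) r n y) = t * y * t := by
    calc gr (L := KK r) hp6.inList symmE6 (phi chevE6 (KK r) r n y) =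
          t⁻¹ * (t * gr (L := KK r) hp6.inList symmE6 (phi chevE6 (KK r) r n y) * t⁻¹) * t := by group
      _ = t * y * t := by rw [hy, hti]
  have hσz : gr (L := KK r) hp6.inList symmE6 (phi chevE6 (KK r) r n z) = t * z := by
    rw [hz, map_mul, gam_sq, h.gam]
  obtain ⟨a, ha⟩ : z⁻¹ * y * z ∈ (em q f).range := by
    refine Cfsg.Agent.H692.IFO.Lang.mem_range_of_rpow f hn0 hn hK (m := k) ?_ ?_
    · rw [MulAut.mul_apply]
      show gr (L := KK r) hp6.inList symmE6 (phi chevE6 (KK r) r n (z⁻¹ * y * z)) = z⁻¹ * y * z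
      simp only [map_mul, map_inv]
      rw [hσz, hσy]
      calc (t * z)⁻¹ * (t * y * t) * (t * z) = z⁻¹ * y * (t * t) * z := by group
        _ = z⁻¹ * y * z := by rw [htt, mul_one]
    · have h1 := conj_pow (i := r ^ k) (a := z⁻¹) (b := y)
      rw [inv_inv] at h1
      rw [h1, hk]
      group
  exact ⟨a, by rw [ha]; group⟩

end Tw

end Cfsg.Agent.H692.RG
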